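import Cfsg.Agent.Lib.CharClifford.FrobTI.Local
import Cfsg.Agent.Lib.CharCore.Virtual
import Cfsg.Agent.S0169
import Mathlib.GroupTheory.ArchimedeanDensely

/-! Characters of a Frobenius group which are not trivial on the kernel. -/

namespace Cfsg.Agent.CharDeep.TIFrob

open scoped ComplexConjugate
open Cfsg.Agent.CharCore Cfsg.Agent.CharClifford.FrobTI

universe u

variable {L : Type u} [Group L]

theorem gen_classFun {f : L → ℂ} (hf : Cfsg.IsGeneralizedCharacter L f) :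
    Cfsg.IsClassFunction L f := by
  obtain ⟨a, b, ha, hb, rfl⟩ := hf
  intro g h
  simp [IsCharacter.isClassFunction ha g h, IsCharacter.isClassFunction hb g h]

theorem gen_eq_sum_classInner [Fintype L] {f : L → ℂ} (hf : Cfsg.IsGeneralizedCharacter L f) :
    f = ∑ θ : Cfsg.IrrCharacter L, Cfsg.classInner f θ • (θ : L → ℂ) := by
  obtain ⟨a, b, ha, hb, rfl⟩ := hf
  simp only [classInner_sub_left, sub_smul, Finset.sum_sub_distrib]
  rw [← IsCharacter.eq_sum_classInner ha, ← IsCharacter.eq_sum_classInner hb]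

theorem exists_degree_dvd [Finite L] (θ : Cfsg.IrrCharacter L) :
    ∃ d : ℕ, 0 < d ∧ (θ : L → ℂ) 1 = d ∧ d ∣ Nat.card L ∧
      ((∀ a b : L, a * b = b * a) → d = 1) := by
  obtain ⟨n, ρ, hρ, hchar⟩ := θ.2
  have hd : (θ : L → ℂ) 1 = (Module.finrank ℂ (Fin n → ℂ) : ℕ) := by
    rw [← hchar, Representation.char_one]
  refine ⟨_, Nat.pos_of_ne_zero fun h0 => ?_, hd, ?_, fun hab => ?_⟩
  · exact irr_apply_one_ne_zero θ (by rw [hd, h0, Nat.cast_zero])
  · have := Cfsg.Agent.S0169.result ρ (⊥ : Subgroup L) (by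
      intro a ha b hb; rw [Subgroup.mem_bot] at ha hb; rw [ha, hb])
    rwa [Subgroup.index_bot] at this
  · exact Nat.dvd_one.mp (Subgroup.index_top (G := L) ▸
      Cfsg.Agent.S0169.result ρ (⊤ : Subgroup L) (fun a _ b _ => hab a b))

variable (H : Subgroup L) [hN : H.Normal] [Fintype L] [Fintype H]

theorem apply_eq_zero {ζ : L → ℂ} (hζ : ζ ∈ inducedSet H) {x : L} (hx : x ∉ H) : ζ x = 0 := by
  obtain ⟨θ, -, rfl⟩ := (mem_inducedSet H).mp hζ
  exact CharClifford.indFun_eq_zero_of_notMem H _ hx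

theorem exists_nat_degree {ζ : L → ℂ} (hζ : ζ ∈ inducedSet H) :
    ∃ n : ℕ, 0 < n ∧ n ∣ Nat.card H ∧ ζ 1 = H.index * n ∧
      ((∀ a b : H, a * b = b * a) → n = 1) := by
  obtain ⟨θ, hθ⟩ := fibre_nonempty H hζ
  obtain ⟨d, hd0, hd, hdvd, hab⟩ := exists_degree_dvd θ
  exact ⟨d, hd0, hdvd, by rw [apply_one_eq H hθ, hd], hab⟩

theorem restrict_inner (hK : Kernelish H) {ζ : L → ℂ} (hζ : ζ ∈ inducedSet H)
    (θ : Cfsg.IrrCharacter H) [Decidable (θ ∈ fibre H ζ)] :
    Cfsg.classInner (fun h : H => ζ h) θ = if θ ∈ fibre H ζ then 1 else 0 := by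
  obtain ⟨φ, hφ⟩ := fibre_nonempty H hζ
  have h : (fun h : H => ζ h) = ∑ φ ∈ fibre H ζ, (1 : ℂ) • (φ : H → ℂ) := by
    funext x
    rw [Finset.sum_apply, (indFun_apply_eq_sum_fibre H hK hφ).1 x]
    simp
  rw [h, classInner_sum_irr]

theorem mem_inducedSet_iff (hK : Kernelish H) {ζ : L → ℂ} :
    ζ ∈ inducedSet H ↔ Cfsg.IsIrrCharacter L ζ ∧ ∃ k : H, ζ k ≠ ζ 1 := by
  classical
  constructor
  · intro hζ
    refine ⟨inducedSet_isIrr H hK hζ, ?_⟩
    by_contra! hcon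
    obtain ⟨φ, hφ⟩ := fibre_nonempty H hζ
    have h1 := restrict_inner H hK hζ φ
    rw [if_pos hφ, show (fun h : H => ζ h) = ζ 1 • (1 : H → ℂ) by
        funext h; simp [hcon h], classInner_smul_left] at h1
    have h2 : Cfsg.classInner (1 : H → ℂ) (φ : H → ℂ) = 0 :=
      classInner_irr_of_ne (χ := ⟨1, isIrrCharacter_one⟩)
        fun e => ((mem_fibre H).mp hφ).1 (congrArg Subtype.val e).symm
    rw [h2, mul_zero] at h1
    exact zero_ne_one h1
  · rintro ⟨hirr, k, hk⟩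
    by_contra hnot
    apply hk
    have hres := IsCharacter.eq_sum_classInner
      (isCharacter_restrict (IsIrrCharacter.isCharacter hirr) H)
    rw [Finset.sum_eq_single ⟨1, isIrrCharacter_one⟩ (fun θ _ hθ => by
      have hθ1 : (θ : H → ℂ) ≠ 1 := fun e => hθ (Subtype.ext e)
      rw [← CharInd.classInner_indFun_right H (θ : H → ℂ)
          (IsCharacter.isClassFunction (IsIrrCharacter.isCharacter hirr)),
        classInner_irr_of_ne (χ := ⟨ζ, hirr⟩) (ψ := ⟨_, isIrrCharacter_indFun H hK θ.2 hθ1⟩)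
          fun e => hnot ((mem_inducedSet H).mpr ⟨θ, hθ1, (congrArg Subtype.val e).symm⟩),
        zero_smul]) (by simp)] at hres
    have e1 := congrFun hres k
    have e2 := congrFun hres 1
    simp only [Pi.smul_apply, Pi.one_apply, OneMemClass.coe_one] at e1 e2
    rw [e1, e2]

/-- With two members, no member is constant away from the identity of the kernel. -/
theorem exists_apply_ne (hK : Kernelish H) {ζ ξ : L → ℂ} (hζ : ζ ∈ inducedSet H)
    (hξ : ξ ∈ inducedSet H) (hne : ζ ≠ ξ) :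
    ∃ a b : H, a ≠ 1 ∧ b ≠ 1 ∧ ζ a ≠ ζ b := by
  classical
  by_contra! hcon
  obtain ⟨k, hk⟩ := ((mem_inducedSet_iff H hK).mp hζ).2
  have hk1 : k ≠ 1 := fun e => hk (by simp [e])
  have hform : (fun h : H => ζ h) =
      ζ k • (1 : H → ℂ) + (ζ 1 - ζ k) • (Pi.single 1 1 : H → ℂ) := by
    funext h
    by_cases hh : h = 1
    · simp [hh]
    · simp [hh, hcon h k hh hk1]
  have hval : ∀ θ : Cfsg.IrrCharacter H, (θ : H → ℂ) ≠ 1 →
      Cfsg.classInner (fun h : H => ζ h) θ =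
        (ζ 1 - ζ k) * ((Nat.card H : ℂ)⁻¹ * conj ((θ : H → ℂ) 1)) := by
    intro θ hθ
    rw [hform, classInner_add_left, classInner_smul_left, classInner_smul_left,
      show Cfsg.classInner (1 : H → ℂ) (θ : H → ℂ) = 0 from
        classInner_irr_of_ne (χ := ⟨1, isIrrCharacter_one⟩) fun e => hθ (congrArg Subtype.val e).symm,
      mul_zero, zero_add]
    congr 1
    simp [Cfsg.classInner, Pi.single_apply]
  obtain ⟨θ, hθ⟩ := fibre_nonempty H hξ
  obtain ⟨φ, hφ⟩ := fibre_nonempty H hζ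
  have h0 := hval θ ((mem_fibre H).mp hθ).1
  rw [restrict_inner H hK hζ θ, if_neg fun h => hne
    (((mem_fibre H).mp h).2.symm.trans ((mem_fibre H).mp hθ).2)] at h0
  have h1 := hval φ ((mem_fibre H).mp hφ).1
  rw [restrict_inner H hK hζ φ, if_pos hφ] at h1
  rcases mul_eq_zero.mp h0.symm with hz | hz
  · rw [hz, zero_mul] at h1
    exact one_ne_zero h1
  · rcases mul_eq_zero.mp hz with hz | hz
    · exact inv_ne_zero (CharInd.natCard_subgroup_ne_zero H) hz
    · exact irr_apply_one_ne_zero θ (by simpa using hz)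

/-- The values on the kernel of a virtual character. -/
theorem apply_eq_inner_add_sum (hK : Kernelish H) {f : L → ℂ}
    (hf : Cfsg.IsGeneralizedCharacter L f) (x : H) :
    f x = Cfsg.classInner (fun h : H => f h) 1 +
      ∑ ζ ∈ inducedSet H, Cfsg.classInner f ζ * ζ x := by
  classical
  have h := congrFun (gen_eq_sum_classInner (isGeneralized_restrict hf H)) x
  simp only [Finset.sum_apply, Pi.smul_apply, smul_eq_mul] at h
  have hnp := sum_nonprincipal H
    (fun θ => Cfsg.classInner (fun h : H => f h) (θ : H → ℂ) * (θ : H → ℂ) x)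
  rw [← sum_inducedSet, ← h] at hnp
  have hF : ∀ ζ ∈ inducedSet H, ∑ φ ∈ fibre H ζ,
      Cfsg.classInner (fun h : H => f h) (φ : H → ℂ) * (φ : H → ℂ) x =
        Cfsg.classInner f ζ * ζ x := fun ζ hζ => by
    obtain ⟨θ, hθ⟩ := fibre_nonempty H hζ
    rw [(indFun_apply_eq_sum_fibre H hK hθ).1 x, Finset.mul_sum]
    refine Finset.sum_congr rfl fun φ hφ => ?_
    rw [← CharInd.classInner_indFun_right H (φ : H → ℂ) (gen_classFun hf),
      ((mem_fibre H).mp hφ).2]
  rw [Finset.sum_congr rfl hF] at hnp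
  rw [hnp]
  simp

theorem inducedSet_nonempty (hK : Kernelish H) (hH : H ≠ ⊥) : (inducedSet H).Nonempty := by
  by_contra hI
  have h := sum_degree_sq_inducedSet H hK
  rw [Finset.not_nonempty_iff_eq_empty.mp hI, Finset.sum_empty] at h
  have hidx : (H.index : ℂ) ≠ 0 := Nat.cast_ne_zero.mpr Subgroup.index_ne_zero_of_finite
  have h1 := (mul_eq_zero.mp h.symm).resolve_left hidx
  rw [sub_eq_zero] at h1
  exact hH (Subgroup.eq_bot_of_card_eq H (by exact_mod_cast h1))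

/-- The degrees, divided by the index, have no common divisor. -/
theorem exists_int_of_forall_mul (hK : Kernelish H) (hH : H ≠ ⊥) {z : ℂ}
    (hz : ∀ ζ ∈ inducedSet H, ∀ n : ℕ, ζ 1 = H.index * n → ∃ k : ℤ, z * n = k) :
    ∃ k : ℤ, z = k := by
  classical
  let A : AddSubgroup ℤ :=
    { carrier := {k | ∃ m : ℤ, z * (k : ℂ) = m}
      add_mem' := by
        rintro a b ⟨m, hm⟩ ⟨m', hm'⟩
        exact ⟨m + m', by push_cast; rw [mul_add, hm, hm']⟩
      zero_mem' := ⟨0, by simp⟩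
      neg_mem' := by
        rintro a ⟨m, hm⟩
        exact ⟨-m, by push_cast; rw [mul_neg, hm]⟩ }
  obtain ⟨a, ha⟩ := Int.subgroup_cyclic A
  by_cases h1 : a.natAbs = 1
  · have h1A : (1 : ℤ) ∈ A := by
      rcases Int.natAbs_eq a with h | h <;> rw [h1] at h <;> rw [ha, h]
      · exact AddSubgroup.mem_closure_singleton.mpr ⟨1, by simp⟩
      · exact AddSubgroup.mem_closure_singleton.mpr ⟨-1, by simp⟩
    obtain ⟨m, hm⟩ := h1A
    exact ⟨m, by simpa using hm⟩
  obtain ⟨q, hq, hqa⟩ := Nat.exists_prime_and_dvd h1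
  exfalso
  choose! n hn0 hdvd hdeg _hab using fun ζ (hζ : ζ ∈ inducedSet H) => exists_nat_degree H hζ
  have hqn : ∀ ζ ∈ inducedSet H, q ∣ n ζ := by
    intro ζ hζ
    obtain ⟨k, hk⟩ := hz ζ hζ (n ζ) (hdeg ζ hζ)
    have hmem : ((n ζ : ℕ) : ℤ) ∈ A := ⟨k, by exact_mod_cast hk⟩
    rw [ha, AddSubgroup.mem_closure_singleton] at hmem
    obtain ⟨t, ht⟩ := hmem
    have hd : a ∣ (n ζ : ℤ) := ⟨t, by rw [← ht, smul_eq_mul, mul_comm]⟩
    exact Int.natCast_dvd_natCast.mp ((Int.natCast_dvd.mpr hqa).trans hd)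
  have hsum := sum_degree_sq_inducedSet H hK
  rw [Finset.sum_congr rfl fun ζ hζ => show ζ 1 ^ 2 =
      (H.index : ℂ) * ((H.index * n ζ ^ 2 : ℕ) : ℂ) by rw [hdeg ζ hζ]; push_cast; ring,
    ← Finset.mul_sum] at hsum
  have hidx : (H.index : ℂ) ≠ 0 := Nat.cast_ne_zero.mpr Subgroup.index_ne_zero_of_finite
  have h2 := mul_left_cancel₀ hidx hsum
  have h3 : (∑ ζ ∈ inducedSet H, H.index * n ζ ^ 2) + 1 = Nat.card H := by
    have h4 : ((∑ ζ ∈ inducedSet H, H.index * n ζ ^ 2 : ℕ) : ℂ) + 1 = Nat.card H := by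
      rw [Nat.cast_sum, h2]; ring
    exact_mod_cast h4
  obtain ⟨ζ₀, hζ₀⟩ := inducedSet_nonempty H hK hH
  have hqH : q ∣ Nat.card H := (hqn ζ₀ hζ₀).trans (hdvd ζ₀ hζ₀)
  have hqS : q ∣ ∑ ζ ∈ inducedSet H, H.index * n ζ ^ 2 :=
    Finset.dvd_sum fun ζ hζ => dvd_mul_of_dvd_right (dvd_pow (hqn ζ hζ) two_ne_zero) _
  rw [← h3] at hqH
  exact hq.one_lt.ne' (Nat.dvd_one.mp ((Nat.dvd_add_right hqS).mp hqH))

end Cfsg.Agent.CharDeep.TIFrob
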