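import Cfsg.Agent.CharDeep.TIFrob.Kernel
import Cfsg.Agent.S0850
import Cfsg.Agent.Coherence.Irr

/-! Coherent isometries for a TI subgroup with Frobenius normalizer. -/

namespace Cfsg.Agent.CharDeep.TIFrob

open Cfsg.Agent.CharCore Cfsg.Agent.CharClifford.FrobTI

universe u

variable {G : Type u} [Group G] [Fintype G] (K : Subgroup G)


omit [Fintype G] in
theorem kernelish (hC : ∀ k ∈ K, k ≠ 1 → Subgroup.centralizer ({k} : Set G) ≤ K) :
    Kernelish (K.subgroupOf (Subgroup.normalizer (K : Set G))) := by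
  intro h hh hh1 y hy
  refine Subgroup.mem_subgroupOf.mpr (hC (h : G) (Subgroup.mem_subgroupOf.mp hh)
    (fun e => hh1 (Subtype.ext e)) ?_)
  rw [Subgroup.mem_centralizer_singleton_iff]
  exact congrArg Subtype.val hy

theorem kernel_normal : ((K.subgroupOf (Subgroup.normalizer (K : Set G)))).Normal := Subgroup.normal_in_normalizer

attribute [local instance] kernel_normal

variable (hTI : ∀ g : G, g ∉ Subgroup.normalizer (K : Set G) → ∀ k ∈ K, g * k * g⁻¹ ∈ K → k = 1)
  (hlt : K < Subgroup.normalizer (K : Set G))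
  (hC : ∀ k ∈ K, k ≠ 1 → Subgroup.centralizer ({k} : Set G) ≤ K)
  [Fintype (Subgroup.normalizer (K : Set G))] [Fintype (K.subgroupOf (Subgroup.normalizer (K : Set G)))]

include hC in
theorem coe_set_eq :
    {χ : (Subgroup.normalizer (K : Set G)) → ℂ | Cfsg.IsIrrCharacter (Subgroup.normalizer (K : Set G)) χ ∧ ∃ k : (Subgroup.normalizer (K : Set G)), (k : G) ∈ K ∧ χ k ≠ χ 1} =
      (inducedSet (K.subgroupOf (Subgroup.normalizer (K : Set G))) : Set ((Subgroup.normalizer (K : Set G)) → ℂ)) := by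
  ext χ
  rw [Set.mem_ofPred_eq, Finset.mem_coe, mem_inducedSet_iff (K.subgroupOf (Subgroup.normalizer (K : Set G))) (kernelish K hC)]
  constructor
  · rintro ⟨h, k, hk, hne⟩
    exact ⟨h, ⟨k, Subgroup.mem_subgroupOf.mpr hk⟩, hne⟩
  · rintro ⟨h, k, hne⟩
    exact ⟨h, k, Subgroup.mem_subgroupOf.mp k.2, hne⟩

variable (star : ((Subgroup.normalizer (K : Set G)) → ℂ) → (G → ℂ))
  (hstar : Cfsg.IsLinearIsometryOn (Cfsg.zspan (inducedSet (K.subgroupOf (Subgroup.normalizer (K : Set G))) : Set ((Subgroup.normalizer (K : Set G)) → ℂ))) star)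
  (hext : ∀ α ∈ Cfsg.zspanOn (inducedSet (K.subgroupOf (Subgroup.normalizer (K : Set G))) : Set ((Subgroup.normalizer (K : Set G)) → ℂ)) ({1}ᶜ : Set (Subgroup.normalizer (K : Set G))),
    star α = Cfsg.indFun (Subgroup.normalizer (K : Set G)) α)

include hext hstar in
theorem star_combination {ζ η : (Subgroup.normalizer (K : Set G)) → ℂ} (hζ : ζ ∈ inducedSet (K.subgroupOf (Subgroup.normalizer (K : Set G)))) (hη : η ∈ inducedSet (K.subgroupOf (Subgroup.normalizer (K : Set G))))
    {nζ nη : ℕ} (hnζ : ζ 1 = (K.subgroupOf (Subgroup.normalizer (K : Set G))).index * nζ) (hnη : η 1 = (K.subgroupOf (Subgroup.normalizer (K : Set G))).index * nη) :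
    Cfsg.indFun (Subgroup.normalizer (K : Set G)) ((nη : ℂ) • ζ - (nζ : ℂ) • η) = (nη : ℂ) • star ζ - (nζ : ℂ) • star η := by
  have hz := Coherence.zspan_subset (S := (inducedSet (K.subgroupOf (Subgroup.normalizer (K : Set G))) : Set ((Subgroup.normalizer (K : Set G)) → ℂ))) (Finset.mem_coe.mpr hζ)
  have he := Coherence.zspan_subset (S := (inducedSet (K.subgroupOf (Subgroup.normalizer (K : Set G))) : Set ((Subgroup.normalizer (K : Set G)) → ℂ))) (Finset.mem_coe.mpr hη)
  simp only [Coherence.nat_smul_zsmul]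
  have hα : (nη : ℤ) • ζ - (nζ : ℤ) • η ∈
      Cfsg.zspanOn (inducedSet (K.subgroupOf (Subgroup.normalizer (K : Set G))) : Set ((Subgroup.normalizer (K : Set G)) → ℂ)) ({1}ᶜ : Set (Subgroup.normalizer (K : Set G))) := by
    refine ⟨Coherence.zspan_sub (Coherence.zspan_zsmul _ hz) (Coherence.zspan_zsmul _ he), ?_⟩
    intro x hx
    rw [Set.mem_compl_iff, not_not, Set.mem_singleton_iff] at hx
    subst hx
    simp [hnζ, hnη]
    ring
  rw [← hext _ hα, Coherence.iso_map_sub hstar (Coherence.zspan_zsmul _ hz)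
    (Coherence.zspan_zsmul _ he) (Coherence.zspan_neg (Coherence.zspan_zsmul _ he)), hstar.2.1 _ hz, hstar.2.1 _ he]

omit [Fintype (Subgroup.normalizer (K : Set G))] [Fintype (K.subgroupOf (Subgroup.normalizer (K : Set G)))] in
include hTI hlt hC in
theorem indFun_apply_self {ϑ : (Subgroup.normalizer (K : Set G)) → ℂ} (hϑ : Cfsg.IsClassFunction (Subgroup.normalizer (K : Set G)) ϑ)
    (hoff : ∀ x : (Subgroup.normalizer (K : Set G)), (x : G) ∉ K → ϑ x = 0) (h1 : ϑ 1 = 0) (x : (Subgroup.normalizer (K : Set G))) :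
    Cfsg.indFun (Subgroup.normalizer (K : Set G)) ϑ x = ϑ x :=
  (Cfsg.Agent.S0850.result K hTI hlt hC).2 ϑ hϑ hoff h1 x

include hTI hlt hC hext hstar in
theorem star_apply {ζ η : (Subgroup.normalizer (K : Set G)) → ℂ} (hζ : ζ ∈ inducedSet (K.subgroupOf (Subgroup.normalizer (K : Set G)))) (hη : η ∈ inducedSet (K.subgroupOf (Subgroup.normalizer (K : Set G))))
    {nζ nη : ℕ} (hnζ : ζ 1 = (K.subgroupOf (Subgroup.normalizer (K : Set G))).index * nζ) (hnη : η 1 = (K.subgroupOf (Subgroup.normalizer (K : Set G))).index * nη) (x : (Subgroup.normalizer (K : Set G))) :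
    (nη : ℂ) * (star ζ (x : G) - ζ x) = (nζ : ℂ) * (star η (x : G) - η x) := by
  have hcf : ∀ {φ : (Subgroup.normalizer (K : Set G)) → ℂ}, φ ∈ inducedSet (K.subgroupOf (Subgroup.normalizer (K : Set G))) → Cfsg.IsClassFunction (Subgroup.normalizer (K : Set G)) φ := fun hφ =>
    IsCharacter.isClassFunction
      (IsIrrCharacter.isCharacter (inducedSet_isIrr (K.subgroupOf (Subgroup.normalizer (K : Set G))) (kernelish K hC) hφ))
  have h := indFun_apply_self K hTI hlt hC (ϑ := (nη : ℂ) • ζ - (nζ : ℂ) • η)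
    (fun g h => by simp [hcf hζ g h, hcf hη g h])
    (fun y hy => by
      have hy' : y ∉ (K.subgroupOf (Subgroup.normalizer (K : Set G))) := fun h => hy (Subgroup.mem_subgroupOf.mp h)
      simp [apply_eq_zero (K.subgroupOf (Subgroup.normalizer (K : Set G))) hζ hy', apply_eq_zero (K.subgroupOf (Subgroup.normalizer (K : Set G))) hη hy'])
    (by simp [hnζ, hnη]; ring) x
  rw [star_combination K star hstar hext hζ hη hnζ hnη] at h
  simp only [Pi.sub_apply, Pi.smul_apply, smul_eq_mul] at h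
  linear_combination h

include hext hstar in
theorem inner_relation {f : G → ℂ} (hf : Cfsg.IsClassFunction G f) {ζ η : (Subgroup.normalizer (K : Set G)) → ℂ}
    (hζ : ζ ∈ inducedSet (K.subgroupOf (Subgroup.normalizer (K : Set G)))) (hη : η ∈ inducedSet (K.subgroupOf (Subgroup.normalizer (K : Set G))))
    {nζ nη : ℕ} (hnζ : ζ 1 = (K.subgroupOf (Subgroup.normalizer (K : Set G))).index * nζ) (hnη : η 1 = (K.subgroupOf (Subgroup.normalizer (K : Set G))).index * nη) :
    (nη : ℂ) * (Cfsg.classInner (fun y : (Subgroup.normalizer (K : Set G)) => f y) ζ - Cfsg.classInner f (star ζ)) =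
      (nζ : ℂ) * (Cfsg.classInner (fun y : (Subgroup.normalizer (K : Set G)) => f y) η - Cfsg.classInner f (star η)) := by
  have h := CharInd.classInner_indFun_right (Subgroup.normalizer (K : Set G)) ((nη : ℂ) • ζ - (nζ : ℂ) • η) hf
  rw [star_combination K star hstar hext hζ hη hnζ hnη] at h
  simp only [classInner_sub_right, classInner_smul_right, map_natCast] at h
  linear_combination -h

include hC hext hstar in
theorem exists_formula {f : G → ℂ} (hf : Cfsg.IsGeneralizedCharacter G f) (hK : K ≠ ⊥) :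
    ∃ w : ℤ, ∀ x : (K.subgroupOf (Subgroup.normalizer (K : Set G))), x ≠ 1 → f ((x : (Subgroup.normalizer (K : Set G))) : G) = (w : ℂ) +
      ∑ ζ ∈ inducedSet (K.subgroupOf (Subgroup.normalizer (K : Set G))), Cfsg.classInner f (star ζ) * ζ x := by
  have hk := kernelish K hC
  have hK' : (K.subgroupOf (Subgroup.normalizer (K : Set G))) ≠ ⊥ := fun h => hK (by
    rw [Subgroup.subgroupOf_eq_bot, disjoint_iff, inf_eq_left.mpr Subgroup.le_normalizer] at h
    exact h)
  obtain ⟨η, hη⟩ := inducedSet_nonempty (K.subgroupOf (Subgroup.normalizer (K : Set G))) hk hK'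
  obtain ⟨nη, hnη0, -, hnη, -⟩ := exists_nat_degree (K.subgroupOf (Subgroup.normalizer (K : Set G))) hη
  have hfN := isGeneralized_restrict hf (Subgroup.normalizer (K : Set G))
  let δ : ((Subgroup.normalizer (K : Set G)) → ℂ) → ℂ := fun ζ =>
    Cfsg.classInner (fun y : (Subgroup.normalizer (K : Set G)) => f y) ζ - Cfsg.classInner f (star ζ)
  have hδint : ∀ ζ ∈ inducedSet (K.subgroupOf (Subgroup.normalizer (K : Set G))), ∃ k : ℤ, δ ζ = k := fun ζ hζ => by
    obtain ⟨k, hk1⟩ := Coherence.inner_gen_int hfN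
      (Coherence.irr_gen (inducedSet_isIrr (K.subgroupOf (Subgroup.normalizer (K : Set G))) hk hζ))
    obtain ⟨l, hl⟩ := Coherence.inner_gen_int hf
      (hstar.2.2.2 ζ (Coherence.zspan_subset (Finset.mem_coe.mpr hζ)))
    exact ⟨k - l, by push_cast; rw [← hk1, ← hl]⟩
  have hnη' : (nη : ℂ) ≠ 0 := Nat.cast_ne_zero.mpr hnη0.ne'
  have hidx : ((K.subgroupOf (Subgroup.normalizer (K : Set G))).index : ℂ) ≠ 0 := Nat.cast_ne_zero.mpr Subgroup.index_ne_zero_of_finite
  obtain ⟨ce, hce⟩ := exists_int_of_forall_mul (K.subgroupOf (Subgroup.normalizer (K : Set G))) hk hK' (z := δ η / nη) (fun ζ hζ n hn => by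
    obtain ⟨k, hk1⟩ := hδint ζ hζ
    refine ⟨k, ?_⟩
    have h := inner_relation K star hstar hext (gen_classFun hf) hζ hη hn hnη
    rw [← hk1]
    field_simp
    linear_combination -h)
  obtain ⟨b₀, hb₀⟩ := Coherence.inner_gen_int (isGeneralized_restrict hfN (K.subgroupOf (Subgroup.normalizer (K : Set G))))
    (isGeneralized_one (G := (K.subgroupOf (Subgroup.normalizer (K : Set G)))))
  refine ⟨b₀ - ce, fun x hx => ?_⟩
  have hdelta : ∀ ζ ∈ inducedSet (K.subgroupOf (Subgroup.normalizer (K : Set G))), Cfsg.classInner (fun y : (Subgroup.normalizer (K : Set G)) => f y) ζ * ζ x =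
      Cfsg.classInner f (star ζ) * ζ x + (ce : ℂ) / (K.subgroupOf (Subgroup.normalizer (K : Set G))).index * (ζ 1 * ζ x) := fun ζ hζ => by
    obtain ⟨n, -, -, hn, -⟩ := exists_nat_degree (K.subgroupOf (Subgroup.normalizer (K : Set G))) hζ
    have h := inner_relation K star hstar hext (gen_classFun hf) hζ hη hn hnη
    have h' : δ η = (ce : ℂ) * nη := by rw [← hce, div_mul_cancel₀ _ hnη']
    simp only [δ] at h'
    rw [h'] at h
    have h'' : Cfsg.classInner (fun y : (Subgroup.normalizer (K : Set G)) => f y) ζ - Cfsg.classInner f (star ζ) = (ce : ℂ) * n :=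
      mul_left_cancel₀ hnη' (h.trans (by ring))
    rw [hn]
    field_simp
    linear_combination (ζ x) * h''
  have h := apply_eq_inner_add_sum (K.subgroupOf (Subgroup.normalizer (K : Set G))) hk hfN x
  rw [Finset.sum_congr rfl hdelta, Finset.sum_add_distrib, ← Finset.mul_sum,
    sum_degree_mul_inducedSet (K.subgroupOf (Subgroup.normalizer (K : Set G))) hk hx, hb₀] at h
  rw [h]
  push_cast
  field_simp
  ring

include hC hstar in
theorem star_inner {χ ζ : (Subgroup.normalizer (K : Set G)) → ℂ} (hχ : χ ∈ inducedSet (K.subgroupOf (Subgroup.normalizer (K : Set G)))) (hζ : ζ ∈ inducedSet (K.subgroupOf (Subgroup.normalizer (K : Set G))))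
    [Decidable (χ = ζ)] : Cfsg.classInner (star χ) (star ζ) = if χ = ζ then 1 else 0 := by
  rw [hstar.2.2.1 χ (Coherence.zspan_subset (Finset.mem_coe.mpr hχ)) ζ
    (Coherence.zspan_subset (Finset.mem_coe.mpr hζ))]
  have hk := kernelish K hC
  split_ifs with h
  · subst h
    exact classInner_irr_self ⟨χ, inducedSet_isIrr (K.subgroupOf (Subgroup.normalizer (K : Set G))) hk hχ⟩
  · exact classInner_irr_of_ne (χ := ⟨χ, inducedSet_isIrr (K.subgroupOf (Subgroup.normalizer (K : Set G))) hk hχ⟩)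
      (ψ := ⟨ζ, inducedSet_isIrr (K.subgroupOf (Subgroup.normalizer (K : Set G))) hk hζ⟩) fun e => h (congrArg Subtype.val e)

include hC hext hstar in
/-- `star χ - χ` is a constant integer on the non-identity elements of `K`. -/
theorem exists_shift (hK : K ≠ ⊥) {χ : (Subgroup.normalizer (K : Set G)) → ℂ} (hχ : χ ∈ inducedSet (K.subgroupOf (Subgroup.normalizer (K : Set G)))) :
    ∃ w : ℤ, ∀ x : (K.subgroupOf (Subgroup.normalizer (K : Set G))), x ≠ 1 → star χ ((x : (Subgroup.normalizer (K : Set G))) : G) = (w : ℂ) + χ x := by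
  classical
  obtain ⟨w, hw⟩ := exists_formula K hC star hstar hext
    (hstar.2.2.2 χ (Coherence.zspan_subset (Finset.mem_coe.mpr hχ))) hK
  refine ⟨w, fun x hx => ?_⟩
  rw [hw x hx, Finset.sum_eq_single χ]
  · rw [star_inner K hC star hstar hχ hχ, if_pos rfl, one_mul]
  · intro ζ hζ hne
    rw [star_inner K hC star hstar hχ hζ, if_neg hne.symm, zero_mul]
  · exact fun h => absurd hχ h

end Cfsg.Agent.CharDeep.TIFrob
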